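import Cfsg.Agent.TID.McL.Num
import Cfsg.Agent.H86.TI.ThreeMcL
import Cfsg.Agent.H41.McLTwo.LocF

/-!
# S4622, the row `McL` (helper62): the characters of degree prime to five of `McL`, `3.McL`, `McL.2`
-/

set_option autoImplicit false
set_option linter.unusedSectionVars false
set_option maxRecDepth 100000
set_option maxHeartbeats 400000

namespace Cfsg.Agent.TID.McL

open Cfsg Subgroup Cfsg.Agent.Characters.Core

universe u v

section three

open Cfsg.Agent.H86.TI Cfsg.Agent.H407.TI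

theorem card_over {E : Type u} [Group E] {Z : Subgroup E} {G : Type v} [Group G] {π : E →* G} [Finite E] (h : Ext Z π)
    (L : Loc G) (hperf : commutator E = ⊤) {lam : Z →* ℂˣ} (hl : lam ≠ 1) :
    Nat.card {χ : IrrCharacter E // Over Z lam (χ : E → ℂ) ∧ ¬ 5 ∣ charDegree (χ : E → ℂ)} = 13 := by
  classical
  obtain ⟨e⟩ := exists_locE h L
  have := finite_irr (G := E)
  have := Fintype.ofFinite (IrrCharacter E)
  have H : ∀ χ : IrrCharacter E, ∃ (u : Fin 7 → ℤ) (w : Fin 4 → ℤ), Over Z lam (χ : E → ℂ) →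
      ((∀ i, (χ : E → ℂ) (e.fam7 i) = u i) ∧ (χ : E → ℂ) (e.X * e.W) = w 0 + w 1 * eta ∧
      (χ : E → ℂ) (e.T * (e.X * e.W)) = w 2 + w 3 * eta ∧ u 0 = charDegree (χ : E → ℂ) ∧
      ∃ a b c d i j : ℤ, H86.TI.Num.RowOK (u 0) (u 1) (u 2) (u 3) (u 4) (u 5) (u 6) (w 0) (w 1) (w 2) (w 3)
        a b c d i j) := by
    intro χ
    by_cases ho : Over Z lam (χ : E → ℂ)
    · obtain ⟨u, w, hh⟩ := e.row h hperf hl χ.2 ho (e.bessel h lam ho)
      exact ⟨u, w, fun _ => hh⟩
    · exact ⟨0, 0, fun h1 => absurd h1 ho⟩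
  choose u w hH using H
  have hG := e.gram h lam (fun i χ => u χ i) (fun i χ => w χ i) (fun χ ho i => (hH χ ho).1 i)
    (fun χ ho => (hH χ ho).2.1) (fun χ ho => (hH χ ho).2.2.1)
  have hc := TID.McL.Num.count hG (fun χ hχ => (hH χ (Finset.mem_filter.1 hχ).2).2.2.2.2)
  rw [Nat.card_eq_fintype_card, Fintype.card_subtype, ← hc]
  congr 1
  ext χ
  simp only [Finset.mem_filter, Finset.mem_univ, true_and]
  constructor
  · rintro ⟨h1, h2⟩
    refine ⟨h1, fun h3 => h2 ?_⟩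
    rw [(hH χ h1).2.2.2.1] at h3
    exact_mod_cast h3
  · rintro ⟨h1, h2⟩
    refine ⟨h1, fun h3 => h2 ?_⟩
    rw [(hH χ h1).2.2.2.1]
    exact_mod_cast h3

/-- **`3.McL`** -/
theorem zero_three {E : Type u} [Group E] [Finite E] (hperf : commutator E = ⊤) (Z : Subgroup E) [Z.Normal]
    (hZ : Z ≤ Subgroup.center E) (hc : Nat.card Z = 3) (h : Spor.IsoMcL (E ⧸ Z)) (l : Z →* ℂˣ) (hl : l ≠ 1) :
    Nat.card {η : IrrCharacter E // (∀ z : Z, (η : E → ℂ) z = (l z : ℂ) * (η : E → ℂ) 1) ∧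
      ¬ 5 ∣ charDegree (η : E → ℂ)} = 13 := by
  obtain ⟨π, hπ⟩ := exists_ext Z hZ hc h
  obtain ⟨L⟩ := exists_loc
  rw [← card_over hπ L hperf hl]
  refine Nat.card_congr (Equiv.subtypeEquivRight fun η => ?_)
  constructor
  · rintro ⟨h1, h2⟩
    refine ⟨fun z g => ?_, h2⟩
    rw [central_mul η.2 (fun g => (mem_center_iff.1 (hZ z.2) g).symm) g, h1 z]
    have h3 : (η : E → ℂ) 1 ≠ 0 := isIrr_apply_one_ne_zero η.2
    field_simp
  · rintro ⟨h1, h2⟩
    refine ⟨fun z => ?_, h2⟩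
    have := h1 z 1
    rwa [mul_one] at this

end three

section one

open Cfsg.Agent.H359.CT.McL

/-- **`McL`** -/
theorem zero_one {G : Type u} [Group G] [Finite G] (h : Spor.IsoMcL G) :
    Nat.card {χ : IrrCharacter G // ¬ 5 ∣ charDegree (χ : G → ℂ)} = 13 := by
  obtain ⟨e⟩ := exists_e h
  have h1 := (tab e).count (fun n => ¬ 5 ∣ n) (fun a => !(5 ∣ dR a : Bool)) (fun b => !(5 ∣ dP b : Bool))
    (fun a => by
      change ¬ 5 ∣ (R a (rc 0)).toNat ↔ _
      rw [hdR, Bool.not_eq_true', decide_eq_false_iff_not])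
    (fun b => by
      change ¬ 5 ∣ ((P b (rc 0)).toNat / 2) ↔ _
      rw [hdP, Bool.not_eq_true', decide_eq_false_iff_not])
  have h2 : (Finset.univ.filter fun a => (!(5 ∣ dR a : Bool)) = true).card +
      2 * (Finset.univ.filter fun b => (!(5 ∣ dP b : Bool)) = true).card = 13 := by decide +kernel
  exact h1.trans h2

end one

section two

open Cfsg.Agent.H41.McLTwo Cfsg.Agent.H359.CT.McL

/-- **`McL.2`** -/
theorem zero_two {H : Type u} [Group H] [Finite H] {S : Subgroup H} [S.Normal] (hN : S.index = 2)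
    (hC : centralizer (S : Set H) = ⊥) (hT : Spor.IsoMcL S) :
    Nat.card {χ : IrrCharacter H // ¬ 5 ∣ charDegree (χ : H → ℂ)} = 20 := by
  classical
  obtain ⟨e⟩ := exists_e hT
  obtain ⟨g, hg⟩ := exists_outer hN
  have hα := not_inner' hC hg
  have h := Cliff.card_two hN (fun n => ¬ 5 ∣ n) (fun n => by omega)
  have h1 := count_inv (mclData e).Θ ((MulAut.conjNormal g : MulAut S) : S ≃* S) (q := 11) (by norm_num)
    ((mclData e).hA hT hα) ((mclData e).hB hT hα) (fun b => !(11 ∣ (mclData e).dP b : Bool))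
    (fun b hb => by
      rw [fac11 hT, pow_one, (mclData e).hdP]
      exact dvd_of_false hb) (card_inv_eq (mclData e) hC hT hg) (fun n => ¬ 5 ∣ n)
    (fun a => !(5 ∣ dR a : Bool)) (fun b => !(5 ∣ dP b : Bool))
    (fun a => by
      change ¬ 5 ∣ (R a (rc 0)).toNat ↔ _
      rw [hdR, Bool.not_eq_true', decide_eq_false_iff_not])
    (fun b => by
      change ¬ 5 ∣ ((P b (rc 0)).toNat / 2) ↔ _
      rw [hdP, Bool.not_eq_true', decide_eq_false_iff_not])
  have h2 : ∀ b, (mclData e).dP b = dP b := fun b => ((mclData e).hdP b).symm.trans (hdP b)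
  simp only [h2] at h1
  have n1 : (Finset.univ.filter fun a => (!(5 ∣ dR a : Bool)) = true).card = 7 := by decide +kernel
  have n2 : (Finset.univ.filter fun b => ((!(5 ∣ dP b : Bool)) && !(11 ∣ dP b : Bool)) = true).card = 1 := by
    decide +kernel
  have n3 : (Finset.univ.filter fun b => ((!(5 ∣ dP b : Bool)) && !!(11 ∣ dP b : Bool)) = true).card = 2 := by
    decide +kernel
  rw [n1, n2, n3] at h1
  have e1 : Nat.card {ψ : IrrCharacter S // ¬ 5 ∣ charDegree (ψ : S → ℂ) ∧ Cliff.Inv S ψ} = 7 + 2 * 1 := by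
    rw [← h1.1]
    exact Nat.card_congr (Equiv.subtypeEquivRight fun ψ => by rw [inv_iff' hN hg])
  have e2 : Nat.card {ψ : IrrCharacter S // ¬ 5 ∣ charDegree (ψ : S → ℂ) ∧ ¬ Cliff.Inv S ψ} = 2 * 2 := by
    rw [← h1.2]
    exact Nat.card_congr (Equiv.subtypeEquivRight fun ψ => by rw [inv_iff' hN hg])
  rw [e1, e2] at h
  omega

end two

end Cfsg.Agent.TID.McL
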