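import Cfsg.Agent.TID.McL.Gen
import Cfsg.Agent.TID.McL.Cnt
import Cfsg.Agent.TID.D3.Loc
import Cfsg.Agent.H681.TI.McLRow
import Cfsg.Agent.H476.TI.McLCent
import Cfsg.Agent.S2047
import Cfsg.Agent.S2073

/-!
# S4622, the row `McL` (helper62)

`smcl : SMcL`.
-/

set_option autoImplicit false
set_option linter.unusedSectionVars false
set_option maxHeartbeats 400000

namespace Cfsg.Agent.TID.McL

open Cfsg Cfsg.Agent.Characters.Core Cfsg.Agent.TID.Syl
open Cfsg.Agent.TID.Blk (Nm Concl)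
open Cfsg.Agent.H622.Over (Lies)
open Cfsg.Agent.H608.TI (IsTI)

universe u

section loc

open Cfsg.Agent.H41.McLTwo

/-- **The normalizer of a Sylow `5`-subgroup of `McL` and `McL.2`.** -/
theorem loc_count {H : Type u} [Group H] [Finite H] {S : Subgroup H} [S.Normal] (hS : Spor.IsoMcL S)
    (hidx : S.index = 1 ∨ S.index = 2) (hC : Subgroup.centralizer (S : Set H) = ⊥) (P : Sylow 5 H)
    (hTI : IsTI (P : Subgroup H)) :
    (S.index = 1 → Nat.card {ψ : IrrCharacter (Nm (P : Subgroup H)) //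
      ¬ 5 ∣ charDegree (ψ : Nm (P : Subgroup H) → ℂ)} = 13) ∧
    (S.index = 2 → Nat.card {ψ : IrrCharacter (Nm (P : Subgroup H)) //
      ¬ 5 ∣ charDegree (ψ : Nm (P : Subgroup H) → ℂ)} = 20) ∧
    ¬ 3 ^ 2 ∣ Nat.card (Nm (P : Subgroup H)) ∧ Nat.card (P : Subgroup H) = 5 ^ 3 := by
  have : Fact (Nat.Prime 5) := ⟨Nat.prime_five⟩
  have D := dat hS hidx P hTI
  obtain ⟨u, hu, hu1, hu7⟩ := D.exA
  have C : H41.McLTwo.Cen S (P : Subgroup H) u := { toDat := D, uP := hu, u1 := hu1, u7 := hu7 }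
  obtain ⟨x, hx, hxu⟩ := C.exists_out
  have hne : ∀ {v : H}, v ∉ Subgroup.zpowers u → v ≠ 1 := fun hv h => hv (h ▸ one_mem _)
  have hx25 := C.cT_out hx hxu
  have hsub : Nat.card (S.subgroupOf (Subgroup.centralizer ({x} : Set H))) = 25 := by
    rw [← hx25, ← Subgroup.inf_subgroupOf_right]
    exact Nat.card_congr (Subgroup.subgroupOfEquivOfLe inf_le_right).toEquiv
  have hcc : Nat.card (Subgroup.centralizer ({x} : Set H)) = 5 ^ 2 * S.index := by
    rw [← (S.subgroupOf (Subgroup.centralizer ({x} : Set H))).card_mul_index, hsub]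
    congr 1
    rcases hidx with h | h
    · rw [h, Subgroup.index_eq_one.1 h, Subgroup.top_subgroupOf, Subgroup.index_top]
    · obtain ⟨t, ht⟩ := exists_outer h
      obtain ⟨s, hs, hst⟩ := D.conj (t * x * t⁻¹) (D.Tn.conj_mem _ (D.PT hx) t) x (D.PT hx)
        (by rw [conj_pow, D.P5 x hx, mul_one, mul_inv_cancel]) (D.P5 x hx)
        (fun h1 => hne hxu (conj_eq_one_iff.1 h1)) (hne hxu) (D.cT_conj t x)
      have hmT : s * t ∉ S := fun h1 => ht ((Subgroup.mul_mem_cancel_left S hs).1 h1)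
      have hmu : s * t ∈ Subgroup.centralizer ({x} : Set H) := by
        have h0 : s * t * x * (s * t)⁻¹ = s * (t * x * t⁻¹) * s⁻¹ := by group
        exact Subgroup.mem_centralizer_singleton_iff.2 (mul_inv_eq_iff_eq_mul.1 (h0.trans hst))
      have h1 : (S.subgroupOf (Subgroup.centralizer ({x} : Set H))).index ∣ 2 :=
        h ▸ Subgroup.relIndex_dvd_index_of_normal S _
      rw [h]
      refine ((Nat.dvd_prime Nat.prime_two).1 h1).resolve_left fun h2 => hmT ?_
      exact Subgroup.subgroupOf_eq_top.1 (Subgroup.index_eq_one.1 h2) hmu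
  have h125 : Nat.card (P : Subgroup H) = 5 ^ 3 := D.Pc
  have hcnt := D3.count_norm P hTI h125 hu C.ord_u (fun v hv => (C.central hv).symm) hx hxu
    (orderOf_eq_prime (D.P5 x hx) (hne hxu)) (fun v hv hvu => by
      obtain ⟨s, -, hs⟩ := D.conj v (D.PT hv) x (D.PT hx) (D.P5 v hv) (D.P5 x hx) (hne hvu) (hne hxu)
        ((C.cT_out hv hvu).trans hx25.symm)
      exact isConj_iff.2 ⟨s, hs⟩) (m := S.index) (by omega) (by omega) hcc
  have hk := k_quot hS hidx hC P hTI
  refine ⟨fun h => ?_, fun h => ?_, ?_, h125⟩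
  · rw [hcnt, h]
    exact congrArg (· + 1) (hk.1 h)
  · rw [hcnt, h]
    exact congrArg (· + 2) (hk.2 h)
  · have h1 : Nat.card (S.subgroupOf (Nm (P : Subgroup H))) = 3000 := by
      rw [← D.numbers.2, ← Subgroup.inf_subgroupOf_right]
      exact Nat.card_congr (Subgroup.subgroupOfEquivOfLe inf_le_right).toEquiv
    have h2 : (S.subgroupOf (Nm (P : Subgroup H))).index ∣ S.index := Subgroup.relIndex_dvd_index_of_normal S _
    have h3 : Nat.card (Nm (P : Subgroup H)) ∣ 3000 * 2 := by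
      rw [← (S.subgroupOf (Nm (P : Subgroup H))).card_mul_index, h1]
      refine Nat.mul_dvd_mul_left _ (h2.trans ?_)
      rcases hidx with h | h <;> rw [h]
      exact one_dvd _
    intro h4
    exact absurd (h4.trans h3) (by norm_num)

end loc

/-- **The row `McL`.** -/
theorem smcl : SMcL.{u} := by
  rintro p hp G _ _ S M B P hS hyp hrk ⟨hPS, rfl, hXS⟩
  have : Fact (Nat.Prime 3) := ⟨Nat.prime_three⟩
  have hKn : (pPrimeCore 5 G).Normal := Lib.Cores.pPrimeCore_normal 5
  have := hS.soc.normal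
  have := hS.soc.simple
  have hP1 := Syl.ne_bot_of_rk hrk
  have hcen : pPrimeCore 5 G ≤ Subgroup.centralizer ((P : Subgroup G) : Set G) :=
    hS.cen.trans (Subgroup.center_le_centralizer _)
  have hsit : H723.TI.Sit 5 P S := ⟨hyp.ti, hcen, hS.soc.normal, hS.soc.simple, hS.soc.nonab, hS.soc.cent⟩
  have hA : H681.TI.Alm S := ⟨hS.soc.normal, hS.soc.cent⟩
  obtain ⟨e⟩ := id hXS
  have hE := H681.TI.normalClosure_eq P hsit hP1 hPS
  have hp1 := H681.TI.perfect_of_simple hS.soc.nonab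
  have hEp := H681.TI.perfect_normalClosure P hcen hE hp1
  have hdvd := H681.TI.card_dvd_of_mult P hcen hE hp1 e S2047.result
  have hidx : S.index = 1 ∨ S.index = 2 := hA.index_prime e Nat.prime_two S2073.result
  have h5K : ¬ 5 ∣ Nat.card (pPrimeCore 5 G) := H681.TI.core_not_dvd
  have hKc := hS.cen
  have hcS := hS.soc.cent
  set E := Subgroup.normalClosure ((P : Subgroup G) : Set G) with hEdef
  set K := pPrimeCore 5 G with hKdef
  have hEn : E.Normal := Subgroup.normalClosure_normal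
  have hπ : Function.Surjective (QuotientGroup.mk' K) := QuotientGroup.mk'_surjective K
  let R : Sylow 5 (G ⧸ K) := P.mapSurjective hπ
  have hR : IsTI (R : Subgroup (G ⧸ K)) :=
    H681.TI.isTI_surj P hyp.ti h5K hcen (T := ⊤) le_top ((QuotientGroup.mk' K).comp (Subgroup.subtype ⊤))
      (fun a => by
        obtain ⟨y, rfl⟩ := hπ a
        exact ⟨⟨y, trivial⟩, rfl⟩) (fun t => QuotientGroup.eq_one_iff _) R
  obtain ⟨l1, l2, l3, l4⟩ := loc_count hXS hidx hcS R hR
  have hinj : ∀ y ∈ (P : Subgroup G), QuotientGroup.mk' K y = 1 → y = 1 := by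
    intro y hy h1
    obtain ⟨k, hk⟩ := P.2 ⟨y, hy⟩
    have h2 : y ^ 5 ^ k = 1 := congrArg Subtype.val hk
    exact orderOf_eq_one_iff.1 (Nat.eq_one_of_dvd_coprimes
      (Nat.Coprime.pow_left k ((Nat.Prime.coprime_iff_not_dvd Nat.prime_five).2 h5K))
      (orderOf_dvd_of_pow_eq_one h2) (Subgroup.orderOf_dvd_natCard K ((QuotientGroup.eq_one_iff y).1 h1)))
  have hf := Syl.hom_of_sylow (QuotientGroup.mk' K) (by rw [MonoidHom.range_eq_top.2 hπ]; infer_instance) P R rfl hinj
    (by rw [QuotientGroup.ker_mk']; exact Syl.central_le _ hKc)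
  have hfs : Function.Surjective hf.fN := by
    rw [← MonoidHom.range_eq_top, hf.range_fN, MonoidHom.range_eq_top.2 hπ, Subgroup.top_subgroupOf]
  have hfk : hf.fN.ker = K.subgroupOf (Nm (P : Subgroup G)) := by
    ext y
    rw [MonoidHom.mem_ker, Subgroup.mem_subgroupOf, ← QuotientGroup.eq_one_iff (N := K)]
    exact ⟨fun h => congrArg Subtype.val h, fun h => Subtype.ext h⟩
  -- the commutator subgroup
  have hKE : K ⊔ E = S.comap (QuotientGroup.mk' K) := by
    rw [← hE, Subgroup.comap_map_eq, QuotientGroup.ker_mk', sup_comm]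
  have hcom : commutator G ≤ E := by
    have h1 : IsCyclic ((G ⧸ K) ⧸ S) := by
      rcases hidx with h | h
      · have : Subsingleton ((G ⧸ K) ⧸ S) := by
          rw [← Finite.card_le_one_iff_subsingleton, ← Subgroup.index_eq_card, h]
        infer_instance
      · have : Fact (Nat.Prime 2) := ⟨Nat.prime_two⟩
        exact isCyclic_of_prime_card (p := 2) (by rw [← Subgroup.index_eq_card, h])
    let σ : G →* (G ⧸ K) ⧸ S := (QuotientGroup.mk' S).comp (QuotientGroup.mk' K)
    have h2 : σ.ker = K ⊔ E := by rw [← MonoidHom.comap_ker, QuotientGroup.ker_mk', hKE]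
    let τ : G ⧸ E →* (G ⧸ K) ⧸ S := QuotientGroup.lift E σ (by rw [h2]; exact le_sup_right)
    have h3 : τ.ker ≤ Subgroup.center (G ⧸ E) := by
      intro y hy
      obtain ⟨y, rfl⟩ := QuotientGroup.mk'_surjective E y
      have h4 : y ∈ ((K ⊔ E : Subgroup G) : Set G) := by rw [← h2]; exact hy
      rw [Subgroup.mul_normal] at h4
      obtain ⟨k, hk, x, hx, rfl⟩ := h4
      rw [map_mul, show QuotientGroup.mk' E x = 1 from (QuotientGroup.eq_one_iff x).2 hx, mul_one,
        Subgroup.mem_center_iff]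
      intro g
      obtain ⟨g, rfl⟩ := QuotientGroup.mk'_surjective E g
      rw [← map_mul, ← map_mul, Subgroup.mem_center_iff.1 (hKc hk) g]
    have h4 := MonoidHom.isMulCommutative_of_isCyclic_of_ker_le_center τ h3
    exact Subgroup.Normal.quotient_commutative_iff_commutator_le.1 h4
  refine concl_three hyp.modu P hyp.ti hKc h5K (fun x hx hxo => ?_) hyp.blk hyp.dfc ?_ fun c => ?_
  · refine (QuotientGroup.eq_one_iff x).1 (H476.TI.McLCent.hC _ S hA hXS R hPS (QuotientGroup.mk' K x) ?_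
      fun h1 => hxo (h1.trans (orderOf_map_dvd _ x)))
    rw [Subgroup.mem_centralizer_iff]
    rintro _ ⟨y, hy, rfl⟩
    rw [← map_mul, ← map_mul, Subgroup.mem_centralizer_iff.1 hx y hy]
  · rw [← Syl.card_eq_of_map (QuotientGroup.mk' K) (P : Subgroup G) (R : Subgroup (G ⧸ K)) rfl hinj,
      P.card_eq_multiplicity] at l4
    exact Nat.pow_right_injective (by norm_num : 2 ≤ 5) l4
  -- the normalizer
  obtain ⟨ν, hν⟩ := exists_ext_comm (K.subgroupOf (Nm (P : Subgroup G))) (cN P c) (fun z hz => by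
    have h1 : ((z : Nm (P : Subgroup G)) : G) ∈ commutator G := by
      have h2 := Subgroup.mem_map_of_mem (Nm (P : Subgroup G)).subtype hz
      rw [Subgroup.map_subtype_commutator] at h2
      exact Subgroup.commutator_mono le_top le_top h2
    have h2 : orderOf ((z : Nm (P : Subgroup G)) : G) ∣ 3 :=
      (Subgroup.orderOf_dvd_natCard (K ⊓ E) ⟨z.2, hcom h1⟩).trans hdvd
    have h3 : (z : Nm (P : Subgroup G)) = 1 := eq_one_of_comm (q := 3) hf.fN hfs
      (by rw [hfk]; exact Syl.central_sub _ hKc) l3 hz (Syl.central_sub _ hKc z.2)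
      (Subtype.ext (orderOf_dvd_iff_pow_eq_one.1 h2))
    rw [show z = 1 from Subtype.ext h3, map_one])
  rw [count_tw (Syl.central_sub _ hKc) (cN P c) ν hν hf.fN hfs hfk fun n => ¬ 5 ∣ n]
  by_cases hc : ∀ z : K, (z : G) ∈ E → c z = 1
  · obtain ⟨μ, hμ⟩ := exists_ext_comm K c fun z hz => hc z (hcom hz)
    rw [count_tw hKc c μ hμ (QuotientGroup.mk' K) hπ (QuotientGroup.ker_mk' K) fun n => ¬ 5 ∣ n]
    rcases hidx with h | h
    · rw [l1 h]
      refine zero_one ⟨MulEquiv.trans ?_ e⟩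
      exact Subgroup.topEquiv.symm.trans (MulEquiv.subgroupCongr (Subgroup.index_eq_one.1 h).symm)
    · rw [l2 h, zero_two h hcS hXS]
  push Not at hc
  obtain ⟨z, hzE, hz1⟩ := hc
  have hz0 : (z : G) ≠ 1 := fun h => hz1 (by rw [show z = 1 from Subtype.ext h, map_one])
  have hcard3 : Nat.card ↥(K ⊓ E) = 3 := by
    refine ((Nat.dvd_prime Nat.prime_three).1 hdvd).resolve_left fun h => hz0 ?_
    exact Subgroup.mem_bot.1 (Subgroup.card_eq_one.1 h ▸ (⟨z.2, hzE⟩ : (z : G) ∈ K ⊓ E))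
  let e1 : E.map (QuotientGroup.mk' K) ≃* S := MulEquiv.subgroupCongr hE
  let ρ : E →* S := e1.toMonoidHom.comp ((QuotientGroup.mk' K).subgroupMap E)
  have hρ : Function.Surjective ρ := e1.surjective.comp ((QuotientGroup.mk' K).subgroupMap_surjective E)
  have hρk : ρ.ker = K.subgroupOf E := by
    ext x
    rw [MonoidHom.mem_ker, Subgroup.mem_subgroupOf, ← QuotientGroup.eq_one_iff (N := K)]
    exact ⟨fun h => congrArg Subtype.val h, fun h => Subtype.ext h⟩
  let π : E →* ↥Spor.McL := e.toMonoidHom.comp ρ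
  have hπs : Function.Surjective π := e.surjective.comp hρ
  have hπk : π.ker = K.subgroupOf E := by
    rw [← hρk]
    ext x
    rw [MonoidHom.mem_ker, MonoidHom.mem_ker]
    exact e.map_eq_one_iff
  have hZc : K.subgroupOf E ≤ Subgroup.center E := by
    intro x hx
    rw [Subgroup.mem_center_iff]
    intro y
    exact Subtype.ext (Subgroup.mem_center_iff.1 (hKc hx) y)
  have hZ3 : Nat.card (K.subgroupOf E) = 3 := by
    rw [← Subgroup.card_map_of_injective (Subgroup.subtype_injective E), Subgroup.subgroupOf_map_subtype]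
    exact hcard3
  have hiso : Spor.IsoMcL (E ⧸ K.subgroupOf E) :=
    ⟨((QuotientGroup.quotientMulEquivOfEq hπk.symm).trans (QuotientGroup.quotientKerEquivOfSurjective π hπs))⟩
  have htop : K ⊔ E = ⊤ := by
    rw [eq_top_iff]
    intro x _
    by_contra hx
    have h1 := H681.TI.McLCov.inv_of_outer E hEp π hπs (hπk ▸ hZc) (by rw [hπk]; exact hZ3) x (by
      rintro ⟨g, hg, hge⟩
      apply hx
      have h1 : QuotientGroup.mk' K (g⁻¹ * x) ∈ Subgroup.centralizer (S : Set (G ⧸ K)) := by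
        rw [Subgroup.mem_centralizer_iff]
        intro s hs
        have hs' : s ∈ E.map (QuotientGroup.mk' K) := by rw [hE]; exact hs
        obtain ⟨y, hy, rfl⟩ := hs'
        rw [← map_mul, ← map_mul]
        congr 1
        have h2 := hge y hy
        calc y * (g⁻¹ * x) = g⁻¹ * (g * y * g⁻¹) * x := by group
          _ = g⁻¹ * (x * y * x⁻¹) * x := by rw [h2]
          _ = g⁻¹ * x * y := by group
      rw [hcS, Subgroup.mem_bot] at h1
      have h3 : g⁻¹ * x ∈ K := (QuotientGroup.eq_one_iff _).1 h1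
      rw [show x = g * (g⁻¹ * x) by group]
      exact Subgroup.mul_mem _ ((le_sup_right : E ≤ K ⊔ E) hg) ((le_sup_left : K ≤ K ⊔ E) h3)) ⟨z, hzE⟩
      (by rw [hπk]; exact z.2)
    change x * (z : G) * x⁻¹ = (z : G)⁻¹ at h1
    rw [Subgroup.mem_center_iff.1 (hKc z.2) x, mul_inv_cancel_right] at h1
    have h2 : (z : G) ^ 2 = 1 := by rw [pow_two, mul_eq_one_iff_eq_inv]; exact h1
    have h3 : orderOf (z : G) ∣ 3 := hcard3 ▸ Subgroup.orderOf_dvd_natCard (K ⊓ E) ⟨z.2, hzE⟩
    exact hz0 (orderOf_eq_one_iff.1 (Nat.eq_one_of_dvd_coprimes (by norm_num : Nat.Coprime 2 3)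
      (orderOf_dvd_of_pow_eq_one h2) h3))
  have hS1 : S.index = 1 := by
    rw [← Subgroup.index_comap_of_surjective _ hπ, ← hKE, htop, Subgroup.index_top]
  let l : K.subgroupOf E →* ℂˣ := c.comp ((E.subtype.comp (K.subgroupOf E).subtype).codRestrict K fun z => z.2)
  rw [l1 hS1, count_prod hKc htop c l (fun _ => rfl) fun n => ¬ 5 ∣ n]
  exact zero_three hEp (K.subgroupOf E) hZc hZ3 hiso l fun h => hz1 (DFunLike.congr_fun h ⟨⟨z, hzE⟩, z.2⟩)

end Cfsg.Agent.TID.McL
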