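import Cfsg.Agent.TID.Syl.Cover
import Cfsg.Agent.TID.Syl.Counts
import Cfsg.Agent.H681.TI.McLLoc
import Cfsg.Agent.S0089

/-!
# S4622, the row `McL` (helper62): general lemmas

* `concl_three` : Sylow subgroups of order `p ^ 3`, the numbers of the characters of degree prime to `p` suffice;
* `exists_ext_comm`, `count_tw`, `count_prod` : the characters over a linear character of a central subgroup.
-/

set_option autoImplicit false
set_option linter.unusedSectionVars false
set_option maxHeartbeats 400000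

namespace Cfsg.Agent.TID.McL

open Cfsg Cfsg.Agent.Characters.Core Cfsg.Agent.TID.Syl
open Cfsg.Agent.TID.Blk (Nm Concl kh)
open Cfsg.Agent.H622.Over (Lies)
open Cfsg.Agent.H608.TI (IsTI)
open Cfsg.Agent.H681.TI (DZ)

universe u v

section frame

variable {G : Type u} [Group G] [Finite G] {p : ℕ} [hp : Fact p.Prime] {M : Ideal AlgInt}

theorem nu_zero_iff {X : Type v} [Group X] [Finite X] {χ : X → ℂ} (hχ : IsIrrCharacter X χ) :
    nu p χ = 0 ↔ ¬ p ∣ charDegree χ := by
  unfold nu
  rw [Nat.factorization_eq_zero_iff]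
  have h1 := H672.charDegree_pos hχ
  constructor
  · rintro (h | h | h)
    · exact absurd hp.out h
    · exact h
    · omega
  · exact fun h => Or.inr (Or.inl h)

/-- **Sylow subgroups of order `p ^ 3`.** -/
theorem concl_three (hM : IsPModular p M) (P : Sylow p G) (hTI : IsTI (P : Subgroup G)) {K : Subgroup G}
    (hKc : K ≤ Subgroup.center G) (hK : ¬ p ∣ Nat.card K)
    (hC : ∀ x ∈ Subgroup.centralizer ((P : Subgroup G) : Set G), ¬ p ∣ orderOf x → x ∈ K)
    {B : Set (IrrCharacter G)} (hB : IsPBlock M B) (hBP : IsDefectGroup p M B P)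
    (h3 : (Nat.card G).factorization p = 3)
    (hcnt : ∀ c : K →* ℂˣ,
      Nat.card {χ : IrrCharacter G // Lies K c (χ : G → ℂ) ∧ ¬ p ∣ charDegree (χ : G → ℂ)} =
      Nat.card {ψ : IrrCharacter (Nm (P : Subgroup G)) //
        Lies (K.subgroupOf (Nm (P : Subgroup G))) (cN P c) (ψ : Nm (P : Subgroup G) → ℂ) ∧
          ¬ p ∣ charDegree (ψ : Nm (P : Subgroup G) → ℂ)}) :
    Concl p M B (P : Subgroup G) := by
  have hP1 : (P : Subgroup G) ≠ ⊥ := by
    intro h
    have h1 := P.card_eq_multiplicity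
    rw [h, h3, Subgroup.card_bot] at h1
    exact (Nat.one_lt_pow (by norm_num) hp.out.one_lt).ne h1
  refine Blk.concl_of_kh hM hB hBP fun b hb => ?_
  obtain ⟨c, h1, h2⟩ := blocks_lies hM P hP1 hTI hKc hK hC hBP hb
  have d1 : blockDefect p B = 3 := by rw [Blk.defect_of_card hM hB hBP P.card_eq_multiplicity, h3]
  have d2 : blockDefect p b = 3 := by rw [Blk.blockDefect_br hM hBP hb, d1]
  have e1 : ∀ χ ∈ B, blockHeight p B (χ : G → ℂ) ≤ 1 := fun χ hχ =>
    ((S4710.result p M hM B hB 3 d1).2 χ hχ).2 (by norm_num)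
  have e2 : ∀ ψ ∈ b, blockHeight p b (ψ : Nm (P : Subgroup G) → ℂ) ≤ 1 := fun ψ hψ =>
    ((S4710.result p M hM b hb.1 3 d2).2 ψ hψ).2 (by norm_num)
  have h0 : kh p B 0 = kh p b 0 := by
    unfold kh
    rw [Nat.card_congr (Equiv.subtypeEquivRight (q := fun χ : IrrCharacter G =>
        Lies K c (χ : G → ℂ) ∧ ¬ p ∣ charDegree (χ : G → ℂ)) fun χ => ?_), hcnt c]
    · refine Nat.card_congr (Equiv.subtypeEquivRight fun ψ => ?_)
      rw [← h2]
      exact and_congr_right fun hψ => by rw [height_eq' hM P hBP hb hψ, nu_zero_iff ψ.2]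
    · constructor
      · rintro ⟨h4, h5⟩
        exact ⟨((h1 χ).1 h4).1, by rw [← nu_zero_iff χ.2, ← height_eq hM P hB hBP h4, h5]⟩
      · rintro ⟨h4, h5⟩
        rw [← nu_zero_iff χ.2] at h5
        have h6 : χ ∈ B := (h1 χ).2 ⟨h4, fun h7 => by
          unfold nu at h5
          unfold DZ at h7
          omega⟩
        exact ⟨h6, by rw [height_eq hM P hB hBP h6, h5]⟩
  have h4 := card_eq hM P hTI hBP hb
  rw [Blk.card_eq_sum_kh (p := p) B (Finset.range 2) (fun χ hχ => Finset.mem_range.2 (by have := e1 χ hχ; omega)),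
    Blk.card_eq_sum_kh (p := p) b (Finset.range 2) (fun ψ hψ => Finset.mem_range.2 (by have := e2 ψ hψ; omega)),
    Finset.sum_range_succ, Finset.sum_range_succ, Finset.sum_range_succ, Finset.sum_range_succ,
    Finset.sum_range_zero, Finset.sum_range_zero] at h4
  intro h
  rcases Nat.lt_or_ge h 2 with h5 | h5
  · have h6 : h = 0 ∨ h = 1 := by omega
    rcases h6 with rfl | rfl
    · exact h0
    · omega
  · rw [Blk.kh_eq_zero B (fun χ hχ => by have := e1 χ hχ; omega),
      Blk.kh_eq_zero b (fun ψ hψ => by have := e2 ψ hψ; omega)]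

end frame

section central

variable {X : Type u} [Group X] [Finite X]

/-- A linear character which is trivial on the commutators extends. -/
theorem exists_ext_comm (K : Subgroup X) (c : K →* ℂˣ) (h : ∀ z : K, (z : X) ∈ commutator X → c z = 1) :
    ∃ μ : X →* ℂˣ, ∀ z : K, μ z = c z := by
  let f : K →* Abelianization X := Abelianization.of.comp K.subtype
  have hk : f.rangeRestrict.ker ≤ c.ker := by
    intro z hz
    rw [MonoidHom.ker_rangeRestrict, MonoidHom.mem_ker] at hz
    exact h z ((QuotientGroup.eq_one_iff _).1 hz)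
  have : Finite (Abelianization X) := Finite.of_surjective _ (QuotientGroup.mk_surjective (s := commutator X))
  obtain ⟨μ, hμ⟩ := CharactersDeep.ElemExt.exists_ext_of_injective (A := Abelianization X) mul_comm f.range.subtype
    f.range.subtype_injective (f.rangeRestrict.liftOfSurjective f.rangeRestrict_surjective ⟨c, hk⟩)
  refine ⟨μ.comp Abelianization.of, fun z => ?_⟩
  have h4 := hμ (f.rangeRestrict z)
  rw [MonoidHom.liftOfRightInverse_comp_apply] at h4
  exact h4

theorem lies_iff {K : Subgroup X} (hK : K ≤ Subgroup.center X) (c : K →* ℂˣ) {χ : X → ℂ} (hχ : IsIrrCharacter X χ) :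
    Lies K c χ ↔ ∀ z : K, χ z = (c z : ℂ) * χ 1 := by
  constructor
  · intro h z
    have h1 := h 1 z
    rwa [one_mul, mul_comm] at h1
  · intro h
    obtain ⟨d, hd⟩ := H622.Over.exists_hom hK hχ
    have h2 : d = c := by
      ext z
      have h1 := hd 1 z
      rw [one_mul, h z, mul_comm] at h1
      exact (mul_left_cancel₀ (isIrr_apply_one_ne_zero hχ) h1).symm
    rw [← h2]
    exact hd

/-- The twist by an extension of `c`. -/
theorem count_tw {K : Subgroup X} (hK : K ≤ Subgroup.center X) (c : K →* ℂˣ) (μ : X →* ℂˣ) (hμ : ∀ z : K, μ z = c z)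
    {Q : Type v} [Group Q] [Finite Q] (π : X →* Q) (hπ : Function.Surjective π) (hker : π.ker = K) (A : ℕ → Prop) :
    Nat.card {χ : IrrCharacter X // Lies K c (χ : X → ℂ) ∧ A (charDegree (χ : X → ℂ))} =
      Nat.card {β : IrrCharacter Q // A (charDegree (β : Q → ℂ))} := by
  obtain ⟨E, hE⟩ := H681.TI.infl_ker_equiv π hπ
  let T : IrrCharacter X ≃ IrrCharacter X :=
    { toFun := fun χ => ⟨fun x => (μ x : ℂ) * (χ : X → ℂ) x, H672.isIrr_mul_lf μ χ.2⟩
      invFun := fun χ => ⟨fun x => (μ⁻¹ x : ℂ) * (χ : X → ℂ) x, H672.isIrr_mul_lf μ⁻¹ χ.2⟩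
      left_inv := fun χ => Subtype.ext (funext fun x => by
        change ((μ⁻¹ x : ℂˣ) : ℂ) * ((μ x : ℂ) * (χ : X → ℂ) x) = _
        rw [← mul_assoc, MonoidHom.inv_apply, Units.inv_mul, one_mul])
      right_inv := fun χ => Subtype.ext (funext fun x => by
        change (μ x : ℂ) * (((μ⁻¹ x : ℂˣ) : ℂ) * (χ : X → ℂ) x) = _
        rw [← mul_assoc, MonoidHom.inv_apply, Units.mul_inv, one_mul]) }
  have hT : ∀ (χ : IrrCharacter X) (x : X), (T χ : X → ℂ) x = (μ x : ℂ) * (χ : X → ℂ) x := fun _ _ => rfl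
  have hTd : ∀ χ : IrrCharacter X, charDegree (T χ : X → ℂ) = charDegree (χ : X → ℂ) := fun χ =>
    H672.charDegree_mul_lf μ _
  symm
  rw [Nat.card_congr (E.subtypeEquiv (q := fun β => A (charDegree (β.1 : X → ℂ))) fun β => by
      rw [hE, H672.charDegree_comp_one]),
    Nat.card_congr (Equiv.subtypeSubtypeEquivSubtypeInter
      (fun β : IrrCharacter X => ∀ n ∈ π.ker, (β : X → ℂ) n = (β : X → ℂ) 1) fun β => A (charDegree (β : X → ℂ)))]
  refine Nat.card_congr (T.subtypeEquiv fun β => ?_)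
  rw [hTd, lies_iff hK c (T β).2, hker]
  refine and_congr_left fun _ => ⟨fun h z => ?_, fun h n hn => ?_⟩
  · rw [hT, hT, h z z.2, hμ, map_one, Units.val_one, one_mul]
  · have h1 := h ⟨n, hn⟩
    rw [hT, hT, ← hμ, map_one, Units.val_one, one_mul] at h1
    exact mul_left_cancel₀ (Units.ne_zero _) h1

/-- The restriction to a supplement of a central subgroup. -/
theorem count_prod {K E : Subgroup X} (hK : K ≤ Subgroup.center X) (hKE : K ⊔ E = ⊤) (c : K →* ℂˣ)
    (l : K.subgroupOf E →* ℂˣ) (hl : ∀ z : K.subgroupOf E, l z = c ⟨z, z.2⟩) (A : ℕ → Prop) :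
    Nat.card {χ : IrrCharacter X // Lies K c (χ : X → ℂ) ∧ A (charDegree (χ : X → ℂ))} =
      Nat.card {η : IrrCharacter E // (∀ z : K.subgroupOf E, (η : E → ℂ) z = (l z : ℂ) * (η : E → ℂ) 1) ∧
        A (charDegree (η : E → ℂ))} := by
  have hKn : K.Normal := ⟨fun k hk g => by
    rw [Subgroup.mem_center_iff.1 (hK hk) g, mul_inv_cancel_right]; exact hk⟩
  obtain ⟨e, he⟩ := H681.TI.central_equiv K E ⊤ (fun k hk x _ => (Subgroup.mem_center_iff.1 (hK hk) x).symm) le_top
    le_top hKE.ge (H672.isIrr_lf c) (c.comp (Subgroup.inclusion inf_le_left)) (fun z => by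
      rw [H672.lf_apply, H672.lf_apply, map_one, Units.val_one, mul_one]
      rfl)
  have h1 : Nat.card {η : IrrCharacter E // (∀ z : K.subgroupOf E, (η : E → ℂ) z = (l z : ℂ) * (η : E → ℂ) 1) ∧
      A (charDegree (η : E → ℂ))} = Nat.card {η : IrrCharacter E // (∀ z : ↥(K ⊓ E), (η : E → ℂ) ⟨z, z.2.2⟩ =
        ((c.comp (Subgroup.inclusion inf_le_left)) z : ℂ) * (η : E → ℂ) 1) ∧ A (charDegree (η : E → ℂ))} := by
    refine Nat.card_congr (Equiv.subtypeEquivRight fun η => and_congr_left fun _ => ⟨fun h z => ?_, fun h z => ?_⟩)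
    · have h2 := h ⟨⟨z, z.2.2⟩, z.2.1⟩
      rw [hl] at h2
      exact h2
    · rw [hl]
      exact h ⟨z, z.2, z.1.2⟩
  rw [h1, ← Nat.card_congr (Equiv.subtypeSubtypeEquivSubtypeInter (fun η : IrrCharacter E => ∀ z : ↥(K ⊓ E),
      (η : E → ℂ) ⟨z, z.2.2⟩ = ((c.comp (Subgroup.inclusion inf_le_left)) z : ℂ) * (η : E → ℂ) 1)
      fun η => A (charDegree (η : E → ℂ))),
    Nat.card_congr (e.subtypeEquiv (q := fun ψ => A (charDegree (ψ.1 : (⊤ : Subgroup X) → ℂ))) fun η => by
      rw [he, H672.charDegree_lf, one_mul]),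
    Nat.card_congr (Equiv.subtypeSubtypeEquivSubtypeInter (fun ψ : IrrCharacter (⊤ : Subgroup X) =>
      H672.Over (Subgroup.inclusion (le_top : K ≤ ⊤)) (ψ : (⊤ : Subgroup X) → ℂ) (H672.lf c))
      fun ψ => A (charDegree (ψ : (⊤ : Subgroup X) → ℂ)))]
  refine Nat.card_congr ((H672.RM.irrEquiv (Subgroup.topEquiv (G := X))).subtypeEquiv fun χ => ?_)
  rw [H681.TI.over_lin_iff le_top hK c (H672.RM.irrEquiv (Subgroup.topEquiv (G := X)) χ).2, lies_iff hK c χ.2]
  exact Iff.rfl

/-- A central commutator of order `q` when `q ^ 2` does not divide the order of the quotient. -/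
theorem eq_one_of_comm {q : ℕ} [hq : Fact q.Prime] {Q : Type v} [Group Q] [Finite Q] (π : X →* Q)
    (hπ : Function.Surjective π) (hK : π.ker ≤ Subgroup.center X) (h2 : ¬ q ^ 2 ∣ Nat.card Q) {x : X}
    (hx : x ∈ commutator X) (hc : x ∈ Subgroup.center X) (hxq : x ^ q = 1) : x = 1 := by
  obtain ⟨R⟩ : Nonempty (Sylow q Q) := inferInstance
  have hk : (Nat.card Q).factorization q ≤ 1 := by
    by_contra hcon
    exact h2 ((pow_dvd_pow q (by omega)).trans (Nat.ordProj_dvd _ _))
  have hcyc : IsCyclic (R : Subgroup Q) := by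
    have h1 := R.card_eq_multiplicity
    rcases Nat.le_one_iff_eq_zero_or_eq_one.1 hk with h | h
    · rw [h, pow_zero] at h1
      have : Subsingleton (R : Subgroup Q) := by rw [← Finite.card_le_one_iff_subsingleton, h1]
      infer_instance
    · rw [h, pow_one] at h1
      exact isCyclic_of_prime_card h1
  let H : Subgroup X := (R : Subgroup Q).comap π
  let f : H →* (R : Subgroup Q) := (π.comp H.subtype).codRestrict _ fun y => y.2
  have hf : f.ker ≤ Subgroup.center H := by
    intro y hy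
    rw [Subgroup.mem_center_iff]
    intro g
    exact Subtype.ext (Subgroup.mem_center_iff.1 (hK (congrArg Subtype.val hy)) g)
  have : IsMulCommutative H := MonoidHom.isMulCommutative_of_isCyclic_of_ker_le_center f hf
  have h3 := S0089.pow_index_eq_one_of_mem H x hx hc
  rw [Subgroup.index_comap_of_surjective _ hπ] at h3
  exact orderOf_eq_one_iff.1 (Nat.eq_one_of_dvd_coprimes
    ((Nat.Prime.coprime_iff_not_dvd hq.out).2 R.not_dvd_index) (orderOf_dvd_of_pow_eq_one hxq)
    (orderOf_dvd_of_pow_eq_one h3))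

end central

end Cfsg.Agent.TID.McL
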