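import Cfsg.Agent.H86.TI.Num

/-!
# S4622, the row `McL` (helper62; certificate from the LP of helper33): 13 rows have degree prime to five
-/

set_option autoImplicit false

namespace Cfsg.Agent.TID.McL.Num

open Cfsg.Agent.H86.TI.Num hiding Qu Ql fin chkD chkAll c0 c1 c2 c3 chk_of rows count

/-- the form of the upper bound -/
def Qu (d a2 a3 a5 b5 a6 a10 p q r s : ℤ) : ℤ :=
  267344 * (d * a5) + (-1604064 * (d * b5)) + 2075920 * (d * a10) + (-101547600 * (a2 * a5)) +
    609285600 * (a2 * b5) + (-260106000 * (a2 * a10)) + (-152398400 * (a3 * a5)) + 914390400 * (a3 * b5) +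
    2468312000 * (a3 * a10) + 1504478976 * (a5 * a5) + 11079661824 * (a5 * b5) + (-2729496000 * (a5 * a6)) +
    (-1590462720 * (a5 * a10)) + 2215825920 * (b5 * b5) + 16376976000 * (b5 * a6) + (-12777811200 * (b5 * a10)) +
    (-1709400000 * (a6 * a10)) + 21939456000 * (a10 * a10) + 1336720 * (d * p) + 638801125 * (d * q) +
    (-2075920 * (d * r)) + 668727105 * (d * s) + (-507738000 * (a2 * p)) + (-28976149125 * (a2 * q)) +
    260106000 * (a2 * r) + (-26619206625 * (a2 * s)) + (-761992000 * (a3 * p)) + 7070224000 * (a3 * q) +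
    (-2468312000 * (a3 * r)) + 11452721280 * (a5 * p) + (-12045559680 * (a5 * r)) + 13321667520 * (a5 * s) +
    76950720000 * (b5 * p) + 94593945600 * (b5 * r) + (-13647480000 * (a6 * p)) + 1709400000 * (a6 * r) +
    (-60019344000 * (a10 * p)) + 5872944000 * (a10 * r) + (-8160768000 * (p * r)) + (-28562688000 * (q * s)) +
    19651632000 * (p * p + p * q + 4 * (q * q)) + (-27812400000 * (r * r + r * s + 4 * (s * s)))

/-- the form of the lower bound -/
def Ql (d a2 a3 a5 b5 a6 a10 p q r s : ℤ) : ℤ :=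
  (-18816 * (d * a3)) + (-540064 * (d * a5)) + 3240384 * (d * b5) + 169344 * (d * a6) + (-1201952 * (d * a10)) +
    1724800 * (a2 * a3) + 159672480 * (a2 * a5) + (-958034880 * (a2 * b5)) + (-15523200 * (a2 * a6)) +
    79648800 * (a2 * a10) + (-6899200 * (a3 * a3)) + 262438176 * (a3 * a5) + (-1803130560 * (a3 * b5)) +
    96588800 * (a3 * a6) + (-2991727200 * (a3 * a10)) + (-1487920896 * (a5 * a5)) + (-5163992064 * (a5 * b5)) +
    2501105376 * (a5 * a6) + 3630477312 * (a5 * a10) + 87653744640 * (b5 * b5) + (-12950118720 * (b5 * a6)) +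
    24061847040 * (b5 * a10) + (-310464000 * (a6 * a6)) + 2610300000 * (a6 * a10) + (-39956716800 * (a10 * a10)) +
    (-611744 * (d * p)) + (-668574625 * (d * q)) + 3290528 * (d * r) + (-699436109 * (d * s)) +
    813885600 * (a2 * p) + 30469673025 * (a2 * q) + (-64125600 * (a2 * r)) + 28170348525 * (a2 * s) +
    1176621600 * (a3 * p) + (-7189123200 * (a3 * q)) + 2738181600 * (a3 * r) + (-12110668416 * (a5 * p)) +
    8090070912 * (a5 * r) + (-14093908416 * (a5 * s)) + (-58980176640 * (b5 * p)) + (-110934109440 * (b5 * r)) +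
    12545887200 * (a6 * p) + (-1508152800 * (a6 * r)) + 55047484800 * (a10 * p) + 13046140800 * (a10 * r) +
    15886886400 * (p * r) + 55604102400 * (q * s) + (-16053206400 * (p * p + p * q + 4 * (q * q))) +
    31940092800 * (r * r + r * s + 4 * (s * s))

/-- the final test -/
def fin (d a2 a3 a5 b5 a6 a10 p q r s : ℤ) : Bool :=
  force (Qu d a2 a3 a5 b5 a6 a10 p q r s) fun U => force (Ql d a2 a3 a5 b5 a6 a10 p q r s) fun L =>
    if d % 5 = 0 then decide (0 ≤ U) && decide (L ≤ 0) else decide (122855040000 ≤ U) && decide (L ≤ 3104640000)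

/-- the enumeration, given `d` -/
def chkD (d : ℤ) : Bool :=
  force (d * d + 128304000 * t7 d + 163296000 * t11 d) fun s0 =>
  decide (898128000 < s0) || loop 16 d 200 fun a2 =>
  decide (22275 * a2 % d ≠ 0) || force (s0 + 22275 * (a2 * a2) + 128304000 * t7 a2) fun s1 =>
  decide (898128000 < s1) || loop 25 d 27 fun a5 =>
  force (s1 + 1197504 * (a5 * a5)) fun s2 =>
  decide (898128000 < s2) || loop 5 d 5 fun b5 =>
  decide ((d + 4 * a5 + 120 * b5) % 125 ≠ 0) || force (s2 + 35925120 * (b5 * b5)) fun s3 =>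
  decide (898128000 < s3) || loop 5 a2 5 fun a10 =>
  decide ((a10 - a5) % 2 ≠ 0) || force (s3 + 29937600 * (a10 * a10)) fun s4 =>
  decide (898128000 < s4) || loop 3 d 170 fun a3 =>
  decide (30800 * a3 % d ≠ 0) || force (s4 + 30800 * (a3 * a3)) fun s5 =>
  decide (898128000 < s5) || loop 4 a3 18 fun a6 =>
  decide ((a6 - a2) % 3 ≠ 0) || force (s5 + 2494800 * (a6 * a6)) fun s6 =>
  decide (898128000 < s6) || L15.all fun w =>
  decide ((a5 - w.2.1 + w.2.2) % 3 ≠ 0) || decide ((a3 - w.2.1 - 3 * w.2.2) % 5 ≠ 0) ||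
  force (s6 + 59875200 * w.1) fun s7 =>
  decide (898128000 < s7) || L15.all fun w' =>
  decide ((w'.2.1 - w.2.1) % 2 ≠ 0) || decide ((w'.2.2 - w.2.2) % 2 ≠ 0) ||
  decide ((a10 - w'.2.1 + w'.2.2) % 3 ≠ 0) || decide ((a6 - w'.2.1 - 3 * w'.2.2) % 5 ≠ 0) ||
  decide (898128000 < s7 + 59875200 * w'.1) || fin d a2 a3 a5 b5 a6 a10 w.2.1 w.2.2 w'.2.1 w'.2.2

/-- the enumeration -/
def chkAll (lo n : ℕ) : Bool :=
  allN n fun k => Nat.beq (lo + k) 0 || !Nat.beq (2694384000 % (3 * (lo + k))) 0 || chkD ((3 * (lo + k) : ℕ) : ℤ)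

theorem c0 : chkAll 0 400 = true := by decide +kernel
theorem c1 : chkAll 400 800 = true := by decide +kernel
theorem c2 : chkAll 1200 1800 = true := by decide +kernel
theorem c3 : chkAll 3000 7000 = true := by decide +kernel

theorem chk_of {n : ℕ} (h0 : 0 < n) (hn : n < 9990) (hd : 3 * n ∣ 2694384000) : chkD ((3 * n : ℕ) : ℤ) = true := by
  have key : ∀ lo m : ℕ, chkAll lo m = true → lo ≤ n → n < lo + m → chkD ((3 * n : ℕ) : ℤ) = true := by
    intro lo m h h1 h2
    have h3 := allN_spec h (n - lo) (by omega)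
    rw [show lo + (n - lo) = n by omega, Bool.or_eq_true, Bool.or_eq_true, Nat.beq_eq, Bool.not_eq_true',
      Nat.mod_eq_zero_of_dvd hd] at h3
    rcases h3 with (h3 | h3) | h3
    · omega
    · exact absurd h3 (by decide)
    · exact h3
  rcases Nat.lt_or_ge n 400 with h1 | h1
  · exact key 0 400 c0 (by omega) (by omega)
  rcases Nat.lt_or_ge n 1200 with h2 | h2
  · exact key 400 800 c1 (by omega) (by omega)
  rcases Nat.lt_or_ge n 3000 with h3 | h3
  · exact key 1200 1800 c2 (by omega) (by omega)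
  · exact key 3000 7000 c3 (by omega) (by omega)

theorem rows {d a2 a3 a5 b5 a6 a10 p q r s e f g k i j : ℤ} (h : RowOK d a2 a3 a5 b5 a6 a10 p q r s e f g k i j) :
    (d % 5 = 0 → 0 ≤ Qu d a2 a3 a5 b5 a6 a10 p q r s ∧ Ql d a2 a3 a5 b5 a6 a10 p q r s ≤ 0) ∧
    (d % 5 ≠ 0 → 122855040000 ≤ Qu d a2 a3 a5 b5 a6 a10 p q r s ∧
      Ql d a2 a3 a5 b5 a6 a10 p q r s ≤ 3104640000) := by
  have hn := h.norm
  have e1 := t7_le h.c7
  have e2 := t7_le h.c14
  have e3 := t11_le h.c11
  have z1 : 0 ≤ a2 * a2 := mul_self_nonneg _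
  have z2 : 0 ≤ a3 * a3 := mul_self_nonneg _
  have z3 : 0 ≤ a5 * a5 := mul_self_nonneg _
  have z4 : 0 ≤ b5 * b5 := mul_self_nonneg _
  have z5 : 0 ≤ a6 * a6 := mul_self_nonneg _
  have z6 : 0 ≤ a10 * a10 := mul_self_nonneg _
  have z7 : 0 ≤ p * p + p * q + 4 * (q * q) := by nlinarith [sq_nonneg (2 * p + q), sq_nonneg q]
  have z8 : 0 ≤ r * r + r * s + 4 * (s * s) := by nlinarith [sq_nonneg (2 * r + s), sq_nonneg s]
  have z9 : 0 ≤ t7 d := by unfold t7; split_ifs <;> norm_num
  have z10 : 0 ≤ t7 a2 := by unfold t7; split_ifs <;> norm_num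
  have z11 : 0 ≤ t11 d := by unfold t11; split_ifs <;> norm_num
  have z12 : 0 < d * d := mul_pos h.pos h.pos
  have m1 := @mem_L15 p q
  have m2 := @mem_L15 r s
  generalize hN : p * p + p * q + 4 * (q * q) = N at *
  generalize hN' : r * r + r * s + 4 * (s * s) = N' at *
  generalize e * e - e * f + 2 * (f * f) = x1 at *
  generalize g * g - g * k + 2 * (k * k) = x2 at *
  generalize i * i - i * j + 3 * (j * j) = x3 at *
  obtain ⟨n, hdn⟩ : ∃ n : ℕ, d = ((3 * n : ℕ) : ℤ) := by
    obtain ⟨y, hy⟩ := h.three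
    have hp := h.pos
    obtain ⟨n, rfl⟩ := Int.eq_ofNat_of_zero_le (show 0 ≤ y by omega)
    exact ⟨n, by rw [hy]; push_cast; rfl⟩
  have hd2 : d * d ≤ 898128000 := by linarith
  have hd3 : d ≤ 29968 := by nlinarith
  have hp := h.pos
  have H := chk_of (n := n) (by omega) (by omega) (by have := h.dvd; rw [hdn] at this; exact_mod_cast this)
  rw [← hdn] at H
  unfold chkD at H
  rw [force_eq] at H
  replace H := orD H (by linarith)
  replace H := loop_spec (by norm_num) H (x := a2) h.c16 (bnd (B := 200) (by push_cast; linarith)).1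
    (bnd (B := 200) (by push_cast; linarith)).2
  replace H := orD H (by rw [not_not]; exact Int.emod_eq_zero_of_dvd h.div2)
  rw [force_eq] at H
  replace H := orD H (by linarith)
  have c25 : (25 : ℤ) ∣ a5 - d := by
    have h1 := h.c5
    have h2 := h.c125
    omega
  replace H := loop_spec (by norm_num) H (x := a5) c25 (bnd (B := 27) (by push_cast; linarith)).1
    (bnd (B := 27) (by push_cast; linarith)).2
  rw [force_eq] at H
  replace H := orD H (by linarith)
  have c5 : ((5 : ℕ) : ℤ) ∣ b5 - d := by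
    have h1 := h.c5
    push_cast
    omega
  replace H := loop_spec (by norm_num) H (x := b5) c5 (bnd (B := 5) (by push_cast; linarith)).1
    (bnd (B := 5) (by push_cast; linarith)).2
  replace H := orD H (by rw [not_not]; exact Int.emod_eq_zero_of_dvd h.c125)
  rw [force_eq] at H
  replace H := orD H (by linarith)
  replace H := loop_spec (by norm_num) H (x := a10) h.c10 (bnd (B := 5) (by push_cast; linarith)).1
    (bnd (B := 5) (by push_cast; linarith)).2
  replace H := orD H (by rw [not_not]; exact Int.emod_eq_zero_of_dvd h.c10')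
  rw [force_eq] at H
  replace H := orD H (by linarith)
  replace H := loop_spec (by norm_num) H (x := a3) h.c3 (bnd (B := 170) (by push_cast; linarith)).1
    (bnd (B := 170) (by push_cast; linarith)).2
  replace H := orD H (by rw [not_not]; exact Int.emod_eq_zero_of_dvd h.div3)
  rw [force_eq] at H
  replace H := orD H (by linarith)
  replace H := loop_spec (by norm_num) H (x := a6) h.c6' (bnd (B := 18) (by push_cast; linarith)).1
    (bnd (B := 18) (by push_cast; linarith)).2
  replace H := orD H (by rw [not_not]; exact Int.emod_eq_zero_of_dvd h.c6)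
  rw [force_eq] at H
  replace H := orD H (by linarith)
  replace H := List.all_eq_true.1 H _ (m1 (by linarith))
  replace H := orL H (by
    rw [Bool.or_eq_true, decide_eq_true_iff, decide_eq_true_iff]
    rintro (h1 | h1)
    · exact h1 (Int.emod_eq_zero_of_dvd h.c15)
    · exact h1 (Int.emod_eq_zero_of_dvd h.c15'))
  rw [force_eq] at H
  replace H := orD H (by linarith)
  replace H := List.all_eq_true.1 H _ (m2 (by linarith))
  replace H := orL H (by
    simp only [Bool.or_eq_true, decide_eq_true_iff]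
    rintro ((((h1 | h1) | h1) | h1) | h1)
    · exact h1 (Int.emod_eq_zero_of_dvd h.cr)
    · exact h1 (Int.emod_eq_zero_of_dvd h.cs)
    · exact h1 (Int.emod_eq_zero_of_dvd h.c30)
    · exact h1 (Int.emod_eq_zero_of_dvd h.c30')
    · linarith)
  unfold fin at H
  rw [force_eq, force_eq] at H
  constructor
  · intro hd
    rw [if_pos hd, Bool.and_eq_true, decide_eq_true_iff, decide_eq_true_iff] at H
    exact H
  · intro hd
    rw [if_neg hd, Bool.and_eq_true, decide_eq_true_iff, decide_eq_true_iff] at H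
    exact H

variable {ι : Type*} {X : Finset ι} {u : Fin 7 → ι → ℤ} {w : Fin 4 → ι → ℤ}

theorem sum_u (G : Gram X u w) : ∑ x ∈ X, Qu (u 0 x) (u 1 x) (u 2 x) (u 3 x) (u 4 x) (u 5 x) (u 6 x) (w 0 x) (w 1 x)
    (w 2 x) (w 3 x) = 1597115520000 := by
  have h1 := G.e15
  have h2 := G.e30
  simp only [Qu, Finset.sum_add_distrib, ← Finset.mul_sum]
  simp only [G.uu, G.uw, G.ww 0 2 (by decide) (by decide), G.ww 0 3 (by decide) (by decide),
    G.ww 1 2 (by decide) (by decide), G.ww 1 3 (by decide) (by decide)]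
  simp only [Fin.reduceEq, if_true, if_false, co_0, co_1, co_2, co_3, co_4, co_5, co_6, mul_zero, add_zero]
  norm_num
  linear_combination (19651632000) * h1 + (-27812400000) * h2

theorem sum_l (G : Gram X u w) : ∑ x ∈ X, Ql (u 0 x) (u 1 x) (u 2 x) (u 3 x) (u 4 x) (u 5 x) (u 6 x) (w 0 x) (w 1 x)
    (w 2 x) (w 3 x) = 40360320000 := by
  have h1 := G.e15
  have h2 := G.e30
  simp only [Ql, Finset.sum_add_distrib, ← Finset.mul_sum]
  simp only [G.uu, G.uw, G.ww 0 2 (by decide) (by decide), G.ww 0 3 (by decide) (by decide),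
    G.ww 1 2 (by decide) (by decide), G.ww 1 3 (by decide) (by decide)]
  simp only [Fin.reduceEq, if_true, if_false, co_0, co_1, co_2, co_3, co_4, co_5, co_6, mul_zero, add_zero]
  norm_num
  linear_combination (-16053206400) * h1 + (31940092800) * h2

/-- **The count.** -/
theorem count (G : Gram X u w)
    (hrow : ∀ x ∈ X, ∃ e f g k i j : ℤ, RowOK (u 0 x) (u 1 x) (u 2 x) (u 3 x) (u 4 x) (u 5 x) (u 6 x) (w 0 x) (w 1 x)
      (w 2 x) (w 3 x) e f g k i j) : (X.filter fun x => ¬ (5 : ℤ) ∣ u 0 x).card = 13 := by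
  classical
  have h1 : ∀ x ∈ X, (if ¬ (5 : ℤ) ∣ u 0 x then (122855040000 : ℤ) else 0) ≤
      Qu (u 0 x) (u 1 x) (u 2 x) (u 3 x) (u 4 x) (u 5 x) (u 6 x) (w 0 x) (w 1 x) (w 2 x) (w 3 x) := by
    intro x hx
    obtain ⟨e, f, g, k, i, j, h⟩ := hrow x hx
    have := rows h
    by_cases h5 : (5 : ℤ) ∣ u 0 x
    · rw [if_neg (not_not.2 h5)]
      exact (this.1 (Int.emod_eq_zero_of_dvd h5)).1
    · rw [if_pos h5]
      exact (this.2 fun h0 => h5 (Int.dvd_of_emod_eq_zero h0)).1
  have h2 : ∀ x ∈ X, Ql (u 0 x) (u 1 x) (u 2 x) (u 3 x) (u 4 x) (u 5 x) (u 6 x) (w 0 x) (w 1 x) (w 2 x) (w 3 x) ≤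
      (if ¬ (5 : ℤ) ∣ u 0 x then (3104640000 : ℤ) else 0) := by
    intro x hx
    obtain ⟨e, f, g, k, i, j, h⟩ := hrow x hx
    have := rows h
    by_cases h5 : (5 : ℤ) ∣ u 0 x
    · rw [if_neg (not_not.2 h5)]
      exact (this.1 (Int.emod_eq_zero_of_dvd h5)).2
    · rw [if_pos h5]
      exact (this.2 fun h0 => h5 (Int.dvd_of_emod_eq_zero h0)).2
  have h3 := Finset.sum_le_sum h1
  have h4 := Finset.sum_le_sum h2
  rw [sum_u G, ← Finset.sum_filter, Finset.sum_const, nsmul_eq_mul] at h3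
  rw [sum_l G, ← Finset.sum_filter, Finset.sum_const, nsmul_eq_mul] at h4
  omega

end Cfsg.Agent.TID.McL.Num
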